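import Groth.Agent.SiteBase.ConstH1.Lift
import Mathlib.Algebra.Homology.DerivedCategory.Ext.ExactSequences
import Mathlib.Algebra.Homology.DerivedCategory.Ext.EnoughInjectives

/-!
# Degree one cohomology of torsion free constant sheaves has no torsion
-/

set_option autoImplicit false

universe u

open CategoryTheory CategoryTheory.Limits Opposite CategoryTheory.Abelian

namespace Groth.Agent.ConstH1

variable {C : Type u} [SmallCategory C] {J : GrothendieckTopology C}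

theorem eq_zero_of_comp_eq_zero {A : AddCommGrpCat.{u}} (hA : ∀ (m : ℤ) (a : A), m ≠ 0 → m • a = 0 → a = 0)
    (φ : cSh J ZZ ⟶ cSh J ZZ) {ι : Type u} (U : ι → C) (n : ι → ℤ) (hn : ∀ i, n i ≠ 0)
    (hφ : ∀ (i : ι) (V : C) (_ : V ⟶ U i), φ.hom.app (op V) = n i • 𝟙 _)
    (hcov : ∀ V : C, ∃ R ∈ J V, ∀ ⦃W : C⦄ (g : W ⟶ V), R g → ∃ i, Nonempty (W ⟶ U i))
    (x : Ext (cSh J ZZ) (cSh J A) 1) (hx : (Ext.mk₀ φ).comp x (zero_add 1) = 0) : x = 0 := by
  let f := Injective.ι (cSh J A)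
  let p := cokernel.π f
  have hE : (ShortComplex.mk f p (cokernel.condition f)).ShortExact :=
    { exact := ShortComplex.exact_of_g_is_cokernel _ (cokernelIsCokernel f) }
  have hinj : ∀ y : Ext (cSh J ZZ) (Injective.under (cSh J A)) 1, y = 0 := fun y => y.eq_zero_of_injective
  obtain ⟨q', hq'⟩ := Ext.covariant_sequence_exact₁ (cSh J ZZ) hE x (hinj _) (zero_add 1)
  obtain ⟨q, rfl⟩ := (Ext.mk₀_bijective _ _).2 q'
  have h0 : (Ext.mk₀ (φ ≫ q)).comp hE.extClass (zero_add 1) = 0 := by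
    rw [← Ext.mk₀_comp_mk₀, Ext.comp_assoc_of_second_deg_zero, hq', hx]
  obtain ⟨r', hr'⟩ := Ext.covariant_sequence_exact₃ (cSh J ZZ) hE (Ext.mk₀ (φ ≫ q)) (zero_add 1) h0
  obtain ⟨r, rfl⟩ := (Ext.mk₀_bijective _ _).2 r'
  rw [Ext.mk₀_comp_mk₀] at hr'
  obtain ⟨t, ht⟩ := exists_lift hA f p (cokernel.condition f) hE φ U n hn hφ hcov q r
    ((Ext.mk₀_bijective _ _).1 hr')
  rw [← hq', ← ht, ← Ext.mk₀_comp_mk₀, Ext.comp_assoc_of_second_deg_zero]
  exact (congrArg (fun z => (Ext.mk₀ t).comp z (zero_add 1)) hE.comp_extClass).trans (Ext.comp_zero ..)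

end Groth.Agent.ConstH1
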