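import Mathlib.CategoryTheory.Sites.Abelian
import Mathlib.CategoryTheory.Sites.ConstantSheaf
import Mathlib.CategoryTheory.Sites.LocallyBijective
import Mathlib.CategoryTheory.Sites.EpiMono
import Mathlib.Algebra.Category.Grp.Abelian
import Mathlib.Algebra.Category.Grp.Limits
import Mathlib.Algebra.Category.Grp.EpiMono
import Mathlib.Algebra.Category.Grp.Colimits
import Mathlib.Algebra.Category.Grp.Injective
import Groth.Agent.SiteBase.AbSecExact
import Groth.Prelude.Def_CohCx

/-!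
# Lifting global sections through an extension by a torsion free constant sheaf
-/

set_option autoImplicit false
set_option backward.isDefEq.respectTransparency false

universe u

open CategoryTheory CategoryTheory.Limits Opposite

namespace Groth.Agent.ConstH1

variable {C : Type u} [SmallCategory C] {J : GrothendieckTopology C}

/-- Restriction of sections. -/
abbrev res (F : Sheaf J AddCommGrpCat.{u}) {V W : C} (g : W ⟶ V) (x : F.obj.obj (op V)) : F.obj.obj (op W) :=
  F.obj.map g.op x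

lemma res_res (F : Sheaf J AddCommGrpCat.{u}) {U V W : C} (g : W ⟶ V) (h : V ⟶ U) (x : F.obj.obj (op U)) :
    res F g (res F h x) = res F (g ≫ h) x :=
  (ConcreteCategory.congr_hom (F.obj.map_comp h.op g.op) x).symm

lemma app_res {F G : Sheaf J AddCommGrpCat.{u}} (f : F ⟶ G) {V W : C} (g : W ⟶ V) (x : F.obj.obj (op V)) :
    f.hom.app (op W) (res F g x) = res G g (f.hom.app (op V) x) :=
  NatTrans.naturality_apply f.hom g.op x

lemma eq_of_sieve (F : Sheaf J AddCommGrpCat.{u}) {V : C} (S : Sieve V) (hS : S ∈ J V)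
    {x y : F.obj.obj (op V)} (h : ∀ ⦃W : C⦄ (g : W ⟶ V), S g → res F g x = res F g y) : x = y := by
  have hs := (isSheaf_iff_isSheaf_of_type _ _).1
    ((Presheaf.isSheaf_iff_isSheaf_forget J F.obj (CategoryTheory.forget AddCommGrpCat.{u})).1 F.property)
  exact ((hs S hS).isSeparatedFor).ext fun W g hg => h g hg

lemma eq_of_bot_mem (F : Sheaf J AddCommGrpCat.{u}) {V : C} (h : ⊥ ∈ J V) (x y : F.obj.obj (op V)) : x = y :=
  eq_of_sieve F ⊥ h fun _ _ hg => hg.elim

/-- A locally unique local choice glues. -/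
theorem exists_glue (F : Sheaf J AddCommGrpCat.{u}) (P : ∀ ⦃V : C⦄, F.obj.obj (op V) → Prop)
    (hres : ∀ ⦃V W : C⦄ (g : W ⟶ V) (x : F.obj.obj (op V)), P x → P (res F g x))
    (huniq : ∀ ⦃V : C⦄ (x y : F.obj.obj (op V)), P x → P y → x = y)
    (hloc : ∀ V : C, ∃ S ∈ J V, ∀ ⦃W : C⦄ (g : W ⟶ V), S g → ∃ x : F.obj.obj (op W), P x) :
    ∃ s : ∀ V, F.obj.obj (op V), (∀ ⦃V W : C⦄ (g : W ⟶ V), res F g (s V) = s W) ∧
      ∀ V, ∃ S ∈ J V, ∀ ⦃W : C⦄ (g : W ⟶ V), S g → P (s W) := by
  choose S hS hP using hloc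
  choose x hx using hP
  have hs := (isSheaf_iff_isSheaf_of_type _ _).1
    ((Presheaf.isSheaf_iff_isSheaf_forget J F.obj (CategoryTheory.forget AddCommGrpCat.{u})).1 F.property)
  have hex : ∀ V, ∃ z : F.obj.obj (op V), ∀ ⦃W : C⦄ (g : W ⟶ V) (hg : S V g), res F g z = x V g hg := by
    intro V
    obtain ⟨z, hz, -⟩ := hs (S V) (hS V) (fun W g hg => x V g hg)
      ((Presieve.compatible_iff_sieveCompatible _).2 fun W W' g k hg =>
        huniq _ _ (hx _ _ _) (hres k _ (hx V g hg)))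
    exact ⟨z, fun W g hg => hz g hg⟩
  choose s hs' using hex
  have hc : ∀ ⦃V W : C⦄ (g : W ⟶ V), res F g (s V) = s W := by
    intro V W g
    refine eq_of_sieve F _ (J.intersection_covering (J.pullback_stable g (hS V)) (hS W)) fun W' k hk => ?_
    rw [res_res, hs' V (k ≫ g) hk.1, hs' W k hk.2]
    exact huniq _ _ (hx _ _ _) (hx _ _ _)
  exact ⟨s, hc, fun V => ⟨S V, hS V, fun W g hg => by
    rw [← hc g, hs' V g hg]
    exact hx V g hg⟩⟩

variable (J) in
/-- The constant sheaf. -/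
noncomputable abbrev cSh (A : AddCommGrpCat.{u}) : Sheaf J AddCommGrpCat.{u} := (constantSheaf J AddCommGrpCat.{u}).obj A

/-- The constant sections. -/
noncomputable def cst {A : AddCommGrpCat.{u}} (V : C) : A →+ (cSh J A).obj.obj (op V) :=
  ((toSheafify J ((Functor.const Cᵒᵖ).obj A)).app (op V)).hom

lemma res_cst {A : AddCommGrpCat.{u}} {V W : C} (g : W ⟶ V) (a : A) :
    res (cSh J A) g (cst V a) = cst W a :=
  (NatTrans.naturality_apply (toSheafify J ((Functor.const Cᵒᵖ).obj A)) g.op a).symm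

lemma locally_cst {A : AddCommGrpCat.{u}} {V : C} (z : (cSh J A).obj.obj (op V)) :
    ∃ S ∈ J V, ∀ ⦃W : C⦄ (g : W ⟶ V), S g → ∃ a : A, cst W a = res (cSh J A) g z :=
  ⟨_, Presheaf.imageSieve_mem J (toSheafify J ((Functor.const Cᵒᵖ).obj A)) z, fun _ _ hg => hg⟩

lemma cst_eq {A : AddCommGrpCat.{u}} {V : C} {a b : A} (h : cst (J := J) V a = cst V b) :
    a = b ∨ ⊥ ∈ J V := by
  by_cases hab : a = b
  · exact Or.inl hab
  · refine Or.inr (J.superset_covering ?_ (Presheaf.equalizerSieve_mem J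
      (toSheafify J ((Functor.const Cᵒᵖ).obj A)) (X := op V) a b h))
    intro W g hg
    exact absurd hg hab

/-- The integers. -/
abbrev ZZ : AddCommGrpCat.{u} := AddCommGrpCat.of (ULift.{u} ℤ)

/-- The value of a map out of the constant sheaf of integers. -/
noncomputable def val {F : Sheaf J AddCommGrpCat.{u}} (k : cSh J ZZ ⟶ F) (V : C) : F.obj.obj (op V) :=
  k.hom.app (op V) (cst (A := ZZ) V ⟨1⟩)

lemma res_val {F : Sheaf J AddCommGrpCat.{u}} (k : cSh J ZZ ⟶ F) {V W : C} (g : W ⟶ V) :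
    res F g (val k V) = val k W := by
  unfold val
  rw [← app_res, res_cst]

lemma val_ext {F : Sheaf J AddCommGrpCat.{u}} {k l : cSh J ZZ ⟶ F} (h : ∀ V, val k V = val l V) : k = l := by
  refine ((sheafificationAdjunction J AddCommGrpCat.{u}).homEquiv _ _).injective ?_
  refine NatTrans.ext (funext fun V => AddCommGrpCat.hom_ext (AddMonoidHom.ext fun z => ?_))
  rw [Adjunction.homEquiv_unit, Adjunction.homEquiv_unit]
  have hz : (z : ULift.{u} ℤ) = (z : ULift.{u} ℤ).down • (⟨1⟩ : ULift.{u} ℤ) := by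
    exact ULift.ext _ _ (by simp)
  rw [hz]
  refine (map_zsmul _ _ _).trans (Eq.trans ?_ (map_zsmul _ _ _).symm)
  exact congrArg (fun w => (z : ULift.{u} ℤ).down • w) (h V.unop)

lemma exists_val_eq {F : Sheaf J AddCommGrpCat.{u}} (s : ∀ V, F.obj.obj (op V))
    (hs : ∀ ⦃V W : C⦄ (g : W ⟶ V), res F g (s V) = s W) :
    ∃ k : cSh J ZZ ⟶ F, ∀ V, val k V = s V := by
  let c : (Functor.const Cᵒᵖ).obj ZZ ⟶ F.obj :=
    { app := fun V => AddCommGrpCat.ofHom ((zmultiplesHom _ (s V.unop)).comp AddEquiv.ulift.toAddMonoidHom)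
      naturality := fun {V W} g => AddCommGrpCat.hom_ext (AddMonoidHom.ext fun z => by
        show (z : ULift.{u} ℤ).down • s W.unop = F.obj.map g ((z : ULift.{u} ℤ).down • s V.unop)
        rw [map_zsmul]
        exact congrArg (fun w => (z : ULift.{u} ℤ).down • w) (hs g.unop).symm) }
  refine ⟨((sheafificationAdjunction J AddCommGrpCat.{u}).homEquiv _ _).symm c, fun V => ?_⟩
  have h := ((sheafificationAdjunction J AddCommGrpCat.{u}).homEquiv _ F).apply_symm_apply c
  rw [Adjunction.homEquiv_unit] at h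
  exact (ConcreteCategory.congr_hom (congrArg (fun t : (Functor.const Cᵒᵖ).obj ZZ ⟶ F.obj => t.app (op V)) h) (⟨1⟩ : ULift.{u} ℤ)).trans (one_zsmul _)

variable {A : AddCommGrpCat.{u}} {I Q : Sheaf J AddCommGrpCat.{u}}

/-- Maps from the integers whose `φ`-multiple lifts, lift, if `φ` is locally a nonzero integer and the
kernel is a torsion free constant sheaf. -/
theorem exists_lift (hA : ∀ (m : ℤ) (a : A), m ≠ 0 → m • a = 0 → a = 0)
    (f : cSh J A ⟶ I) (p : I ⟶ Q) (w : f ≫ p = 0) (hE : (ShortComplex.mk f p w).ShortExact)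
    (φ : cSh J ZZ ⟶ cSh J ZZ) {ι : Type u} (U : ι → C) (n : ι → ℤ) (hn : ∀ i, n i ≠ 0)
    (hφ : ∀ (i : ι) (V : C) (_ : V ⟶ U i), φ.hom.app (op V) = n i • 𝟙 _)
    (hcov : ∀ V : C, ∃ R ∈ J V, ∀ ⦃W : C⦄ (g : W ⟶ V), R g → ∃ i, Nonempty (W ⟶ U i))
    (q : cSh J ZZ ⟶ Q) (r : cSh J ZZ ⟶ I) (hr : r ≫ p = φ ≫ q) : ∃ t : cSh J ZZ ⟶ I, t ≫ p = q := by
  classical
  let R : ι → Set A := fun i => Set.range fun c : A ⧸ (zsmulAddGroupHom (α := A) (n i)).range => c.out
  let P : ∀ ⦃V : C⦄, I.obj.obj (op V) → Prop := fun V x =>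
    p.hom.app (op V) x = val q V ∧ ∃ (i : ι) (_ : V ⟶ U i) (α : A), α ∈ R i ∧
      n i • x - val r V = f.hom.app (op V) (cst V α)
  have hf : ∀ V, Function.Injective (f.hom.app (op V)) := fun V =>
    have : Mono f := hE.mono_f
    SiteBase.sheaf_app_injective f V
  have hker : ∀ (V : C) (x : I.obj.obj (op V)), p.hom.app (op V) x = 0 → ∃ a, f.hom.app (op V) a = x := fun V x hx => by
    obtain ⟨z, hz⟩ := SiteBase.exists_kernel_section (ShortComplex.mk f p w) V x hx
    haveI : Mono f := hE.mono_f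
    refine ⟨(hE.exact.lift (kernel.ι p) (kernel.condition p)).hom.app (op V) z, ?_⟩
    refine Eq.trans ?_ hz
    exact congrArg (fun t => t.hom.app (op V) z) (hE.exact.lift_f (kernel.ι p) (kernel.condition p))
  have hres : ∀ ⦃V W : C⦄ (g : W ⟶ V) (x : I.obj.obj (op V)), P x → P (res I g x) := by
    rintro V W g x ⟨h1, i, a, α, hα, h2⟩
    refine ⟨by rw [app_res, h1, res_val], i, g ≫ a, α, hα, ?_⟩
    have h3 := congrArg (res I g) h2
    simp only [res] at h3
    rw [map_sub, map_zsmul] at h3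
    rw [← res_val r g, ← res_cst g α, app_res]
    exact h3
  have huniq : ∀ ⦃V : C⦄ (x y : I.obj.obj (op V)), P x → P y → x = y := by
    rintro V x y ⟨hx, i, a, α, hα, hxi⟩ ⟨hy, j, b, β, hβ, hyj⟩
    by_cases hV : ⊥ ∈ J V
    · exact eq_of_bot_mem I hV _ _
    have hij : n i = n j := by
      have h1 : (n i • (𝟙 ((cSh J ZZ).obj.obj (op V)))) (cst (A := ZZ) V ⟨1⟩) =
          (n j • (𝟙 ((cSh J ZZ).obj.obj (op V)))) (cst (A := ZZ) V ⟨1⟩) := by
        rw [← hφ i V a, ← hφ j V b]
      have h2 : cst (J := J) (A := ZZ) V (n i • (⟨1⟩ : ULift.{u} ℤ)) = cst V (n j • (⟨1⟩ : ULift.{u} ℤ)) := by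
        rw [map_zsmul, map_zsmul]
        simpa using h1
      have h3 := (cst_eq h2).resolve_right hV
      simpa using congrArg ULift.down h3
    obtain ⟨d, hd⟩ := hker V (x - y) (by rw [map_sub, hx, hy, sub_self])
    obtain ⟨S, hS, hSd⟩ := locally_cst d
    refine eq_of_sieve I S hS fun W g hg => ?_
    obtain ⟨γ, hγ⟩ := hSd g hg
    by_cases hW : ⊥ ∈ J W
    · exact eq_of_bot_mem I hW _ _
    have e1 : res I g x - res I g y = f.hom.app (op W) (cst W γ) := by
      rw [hγ, app_res, hd]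
      exact (map_sub (I.obj.map g.op).hom x y).symm
    have e2 : n i • (res I g x - res I g y) = f.hom.app (op W) (cst W (α - β)) := by
      have hx' : n i • res I g x - val r W = f.hom.app (op W) (cst W α) := by
        rw [← res_val r g, ← res_cst g α, app_res, ← hxi]
        simp only [res, map_sub, map_zsmul]
      have hy' : n i • res I g y - val r W = f.hom.app (op W) (cst W β) := by
        rw [← res_val r g, ← res_cst g β, app_res, ← hyj, hij]
        simp only [res, map_sub, map_zsmul]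
      rw [smul_sub, map_sub, map_sub, ← hx', ← hy']
      abel
    rw [e1, ← map_zsmul, ← map_zsmul] at e2
    have e3 : n i • γ = α - β := (cst_eq (hf W e2)).resolve_right hW
    obtain ⟨cα, rfl⟩ := hα
    obtain ⟨cβ, rfl⟩ := hβ
    have hc : (cα.out : A) = cβ.out := by
      obtain ⟨cb, hcb⟩ : ∃ cb : A ⧸ (zsmulAddGroupHom (α := A) (n i)).range, cb.out = cβ.out := by
        revert cβ
        rw [← hij]
        exact fun c _ _ _ => ⟨c, rfl⟩
      have : cα = cb := by
        rw [← cα.out_eq', ← cb.out_eq', QuotientAddGroup.eq]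
        refine ⟨-γ, ?_⟩
        show n i • (-γ) = -cα.out + cb.out
        rw [smul_neg, e3, hcb]
        dsimp only
        abel
      rw [this, hcb]
    dsimp only at e3
    rw [hc, sub_self] at e3
    refine sub_eq_zero.1 ?_
    rw [e1, hA _ _ (hn i) e3, map_zero, map_zero]
  have hloc : ∀ V : C, ∃ S ∈ J V, ∀ ⦃W : C⦄ (g : W ⟶ V), S g → ∃ x : I.obj.obj (op W), P x := by
    intro V
    haveI : Epi p := hE.epi_g
    haveI := (Sheaf.isLocallySurjective_iff_epi' (A := AddCommGrpCat.{u}) p).2 inferInstance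
    obtain ⟨T, hT, hTi⟩ := hcov V
    let T' := T ⊓ Presheaf.imageSieve p.hom (val q V)
    have hT' : T' ∈ J V := J.intersection_covering hT (Presheaf.imageSieve_mem J p.hom (val q V))
    have key : ∀ ⦃W : C⦄ (g : W ⟶ V), T' g → ∃ S ∈ J W, ∀ ⦃W' : C⦄ (k : W' ⟶ W), S k →
        ∃ x : I.obj.obj (op W'), P x := by
      rintro W g ⟨hg, x₀, hx₀⟩
      obtain ⟨i, ⟨a⟩⟩ := hTi g hg
      have hpx : p.hom.app (op W) x₀ = val q W := hx₀.trans (res_val q g)
      obtain ⟨d, hd⟩ := hker W (n i • x₀ - val r W) (by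
        rw [map_sub, map_zsmul, hpx]
        have e : p.hom.app (op W) (val r W) = n i • val q W := by
          refine (congrArg (fun t => t.hom.app (op W) (cst (A := ZZ) W ⟨1⟩)) hr).trans ?_
          show q.hom.app (op W) (φ.hom.app (op W) _) = _
          rw [hφ i W a]
          simp [val]
        rw [e, sub_self])
      obtain ⟨S, hS, hSd⟩ := locally_cst d
      refine ⟨S, hS, fun W' k hk => ?_⟩
      obtain ⟨δ, hδ⟩ := hSd k hk
      let c : A ⧸ (zsmulAddGroupHom (α := A) (n i)).range := QuotientAddGroup.mk δ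
      obtain ⟨β, hβ⟩ : c.out - δ ∈ (zsmulAddGroupHom (α := A) (n i)).range := by
        have := (QuotientAddGroup.eq (s := (zsmulAddGroupHom (α := A) (n i)).range)).1 c.out_eq'.symm
        rwa [neg_add_eq_sub] at this
      change n i • β = _ at hβ
      refine ⟨res I k x₀ + f.hom.app (op W') (cst W' β), ?_, i, k ≫ a, c.out, ⟨c, rfl⟩, ?_⟩
      · rw [map_add, app_res, hpx, res_val]
        have : p.hom.app (op W') (f.hom.app (op W') (cst W' β)) = 0 :=
          congrArg (fun t => t.hom.app (op W') (cst W' β)) w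
        rw [this, add_zero]
      · have h1 : n i • res I k x₀ - val r W' = f.hom.app (op W') (cst W' δ) := by
          rw [hδ, app_res, hd, ← res_val r k]
          simp only [res, map_sub, map_zsmul]
        rw [smul_add, ← map_zsmul (f.hom.app (op W')).hom, ← map_zsmul (cst W'), hβ, map_sub, map_sub, ← h1]
        abel
    choose S hS hP using key
    refine ⟨Sieve.bind T'.arrows S, J.bind_covering hT' hS, ?_⟩
    rintro W h ⟨Z, k, g, hg, hk, rfl⟩
    exact hP g hg k hk
  obtain ⟨s, hs, hsP⟩ := exists_glue I P hres huniq hloc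
  obtain ⟨t, ht⟩ := exists_val_eq s hs
  refine ⟨t, val_ext fun V => ?_⟩
  obtain ⟨S, hS, hSP⟩ := hsP V
  refine eq_of_sieve Q S hS fun W g hg => ?_
  rw [res_val, res_val]
  exact (congrArg (p.hom.app (op W)) (ht W)).trans (hSP g hg).1

end Groth.Agent.ConstH1
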